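import Mathlib.CategoryTheory.Abelian.RightDerived
import Mathlib.Algebra.Homology.ShortComplex.ExactFunctor

/-! `F.rightDerived 0` is left exact, described as `ker (F I⁰ ⟶ F I¹)` on the chosen resolutions. -/

universe v v' u u'

open CategoryTheory Category Limits

namespace Groth.Agent.DerZero.LeftExact

variable {A : Type u} [Category.{v} A] [Abelian A] [EnoughInjectives A]
variable {B : Type u'} [Category.{v'} B] [Abelian B] (F : A ⥤ B) [F.Additive]

noncomputable abbrev I₀ (X : A) : A := (injectiveResolution X).cocomplex.X 0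
noncomputable abbrev a₀ (X : A) : X ⟶ I₀ X := (injectiveResolution X).ι.f 0
noncomputable abbrev d₀ (X : A) : I₀ X ⟶ (injectiveResolution X).cocomplex.X 1 :=
  (injectiveResolution X).cocomplex.d 0 1

noncomputable abbrev L (X : A) : CochainComplex B ℕ :=
  (F.mapHomologicalComplex (ComplexShape.up ℕ)).obj (injectiveResolution X).cocomplex

noncomputable def cyc (X : A) : (F.rightDerived 0).obj X ≅ (L F X).cycles 0 :=
  (injectiveResolution X).isoRightDerivedObj F 0 ≪≫ (CochainComplex.isoHomologyπ₀ (L F X)).symm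

/-- The inclusion `R⁰F X ⟶ F I⁰`. -/
noncomputable def rho (X : A) : (F.rightDerived 0).obj X ⟶ F.obj (I₀ X) :=
  (cyc F X).hom ≫ (L F X).iCycles 0

instance (X : A) : Mono (rho F X) :=
  mono_comp (cyc F X).hom ((L F X).iCycles 0)

theorem rho_d (X : A) : rho F X ≫ F.map (d₀ X) = 0 :=
  (assoc _ _ _).trans ((congrArg (_ ≫ ·) ((L F X).iCycles_d 0 1)).trans comp_zero)

theorem lift_rho {X : A} {T : B} (t : T ⟶ F.obj (I₀ X)) (ht : t ≫ F.map (d₀ X) = 0) :
    ∃ s : T ⟶ (F.rightDerived 0).obj X, s ≫ rho F X = t := by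
  refine ⟨(L F X).liftCycles t 1 (by simp) ht ≫ (cyc F X).inv, ?_⟩
  exact (assoc _ _ _).trans ((congrArg (_ ≫ ·) ((cyc F X).inv_hom_id_assoc _)).trans
    ((L F X).liftCycles_i t 1 (by simp) ht))

theorem rho_naturality {X Y : A} (f : X ⟶ Y) :
    (F.rightDerived 0).map f ≫ rho F Y =
      rho F X ≫ F.map ((InjectiveResolution.desc f (injectiveResolution Y) (injectiveResolution X)).f 0) := by
  set ψ := InjectiveResolution.desc f (injectiveResolution Y) (injectiveResolution X)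
  have h := InjectiveResolution.isoRightDerivedObj_hom_naturality f (injectiveResolution X)
    (injectiveResolution Y) ψ
    (InjectiveResolution.desc_commutes_zero f _ _) F 0
  let Φ : L F X ⟶ L F Y := (F.mapHomologicalComplex _).map ψ
  have hπ : (CochainComplex.isoHomologyπ₀ (L F X)).inv ≫ HomologicalComplex.cyclesMap Φ 0 =
      HomologicalComplex.homologyMap Φ 0 ≫ (CochainComplex.isoHomologyπ₀ (L F Y)).inv := by
    rw [Iso.inv_comp_eq, ← assoc, Iso.eq_comp_inv, show (CochainComplex.isoHomologyπ₀ (L F X)).hom = (L F X).homologyπ 0 from rfl,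
      show (CochainComplex.isoHomologyπ₀ (L F Y)).hom = (L F Y).homologyπ 0 from rfl]
    exact (HomologicalComplex.homologyπ_naturality Φ 0).symm
  have h' : (F.rightDerived 0).map f ≫ (cyc F Y).hom =
      (cyc F X).hom ≫ HomologicalComplex.cyclesMap Φ 0 := by
    simp only [cyc, Iso.trans_hom, Iso.symm_hom]
    refine (assoc _ _ _).symm.trans ((congrArg (· ≫ _) h).trans ((assoc _ _ _).trans ?_))
    exact (congrArg (_ ≫ ·) hπ.symm).trans (assoc _ _ _).symm
  exact (assoc _ _ _).symm.trans ((congrArg (· ≫ (L F Y).iCycles 0) h').trans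
    ((assoc _ _ _).trans ((congrArg (_ ≫ ·) (HomologicalComplex.cyclesMap_i Φ 0)).trans
      (assoc _ _ _).symm)))

theorem rho_map_eq {X : A} {J : A} [Injective J] (g g' : I₀ X ⟶ J) (h : a₀ X ≫ g = a₀ X ≫ g') :
    rho F X ≫ F.map g = rho F X ≫ F.map g' := by
  have hz : a₀ X ≫ (g - g') = 0 := by rw [Preadditive.comp_sub, h, sub_self]
  obtain ⟨k, hk⟩ : ∃ k, d₀ X ≫ k = g - g' := ⟨_, (injectiveResolution X).exact₀.comp_descToInjective (g - g') hz⟩
  rw [← sub_eq_zero, ← Preadditive.comp_sub, ← F.map_sub, ← hk, F.map_comp, ← assoc, rho_d, zero_comp]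

instance : (F.rightDerived 0).Additive where
  map_add {X Y f g} := by
    rw [← cancel_mono (rho F Y), Preadditive.add_comp, rho_naturality, rho_naturality, rho_naturality,
      ← Preadditive.comp_add, ← F.map_add]
    apply rho_map_eq F
    rw [Preadditive.comp_add]
    erw [InjectiveResolution.desc_commutes_zero, InjectiveResolution.desc_commutes_zero,
      InjectiveResolution.desc_commutes_zero]
    exact Preadditive.add_comp _ _ _ _ _ _

theorem exact_and_mono_map (S : ShortComplex A) (hS : S.ShortExact) :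
    (S.map (F.rightDerived 0)).Exact ∧ Mono ((F.rightDerived 0).map S.f) := by
  haveI := hS.mono_f
  set φ := (InjectiveResolution.desc S.g (injectiveResolution S.X₃) (injectiveResolution S.X₂)).f 0
  set κ := (InjectiveResolution.desc S.f (injectiveResolution S.X₂) (injectiveResolution S.X₁)).f 0
  have hφ : a₀ S.X₂ ≫ φ = S.g ≫ a₀ S.X₃ := InjectiveResolution.desc_commutes_zero _ _ _
  have hκ : a₀ S.X₁ ≫ κ = S.f ≫ a₀ S.X₂ := InjectiveResolution.desc_commutes_zero _ _ _
  haveI : Mono (a₀ S.X₂) := (inferInstance : Mono ((injectiveResolution S.X₂).ι.f 0))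
  haveI : Mono (a₀ S.X₁) := (inferInstance : Mono ((injectiveResolution S.X₁).ι.f 0))
  haveI : Mono (a₀ S.X₃) := (inferInstance : Mono ((injectiveResolution S.X₃).ι.f 0))
  haveI : Mono (S.f ≫ a₀ S.X₂) := mono_comp _ _
  let m : I₀ S.X₂ ⟶ I₀ S.X₁ := Injective.factorThru (a₀ S.X₁) (S.f ≫ a₀ S.X₂)
  have hm : S.f ≫ a₀ S.X₂ ≫ m = a₀ S.X₁ := by
    rw [← assoc]; exact Injective.comp_factorThru _ _
  have hd₂ : a₀ S.X₂ ≫ d₀ S.X₂ = 0 := (injectiveResolution S.X₂).ι_f_zero_comp_complex_d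
  have hq : (S.f ≫ a₀ S.X₂) ≫ biprod.lift (d₀ S.X₂) φ = 0 := by
    apply biprod.hom_ext
    · rw [assoc, assoc, biprod.lift_fst]
      rw [hd₂, comp_zero, zero_comp]
    · rw [assoc, assoc, biprod.lift_snd, hφ, S.zero_assoc]; simp
  have hT : (ShortComplex.mk (S.f ≫ a₀ S.X₂) (biprod.lift (d₀ S.X₂) φ) hq).Exact := by
    refine ShortComplex.exact_of_f_is_kernel _ (KernelFork.IsLimit.ofι' _ _ fun {W} x hx => ?_)
    dsimp at x hx
    have h1 : x ≫ d₀ S.X₂ = 0 := by simpa using hx =≫ biprod.fst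
    have h2 : x ≫ φ = 0 := by simpa using hx =≫ biprod.snd
    let y : W ⟶ S.X₂ := (KernelFork.IsLimit.lift' (injectiveResolution S.X₂).isLimitKernelFork x h1).1
    have hy' : y ≫ a₀ S.X₂ = x :=
      (KernelFork.IsLimit.lift' (injectiveResolution S.X₂).isLimitKernelFork x h1).2
    have hy2 : y ≫ S.g = 0 := by
      rw [← cancel_mono (a₀ S.X₃), assoc, ← hφ, ← assoc, hy', h2, zero_comp]
    exact ⟨hS.exact.lift y hy2, by rw [← assoc, hS.exact.lift_f, hy']⟩
  have key : ∀ {T : B} (t : T ⟶ F.obj (I₀ S.X₂)), t ≫ F.map (d₀ S.X₂) = 0 → t ≫ F.map φ = 0 →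
      ∀ {J : A} [Injective J] (g : I₀ S.X₂ ⟶ J), (S.f ≫ a₀ S.X₂) ≫ g = 0 → t ≫ F.map g = 0 := by
    intro T t h1 h2 J _ g hg
    obtain ⟨g', hdesc⟩ : ∃ g', biprod.lift (d₀ S.X₂) φ ≫ g' = g := ⟨_, hT.comp_descToInjective g hg⟩
    simp only [← hdesc, biprod.lift_eq, Preadditive.add_comp, assoc, F.map_add, F.map_comp,
      Preadditive.comp_add, reassoc_of% h1, reassoc_of% h2, zero_comp, add_zero]
  haveI : Mono ((F.rightDerived 0).map S.f) := by
    refine Preadditive.mono_of_cancel_zero _ fun {T} t ht => ?_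
    have h1 : (t ≫ rho F S.X₁) ≫ F.map κ = 0 := by
      rw [assoc, ← rho_naturality F S.f, ← assoc, ht, zero_comp]
    have hz : a₀ S.X₁ ≫ (κ ≫ m - 𝟙 _) = 0 := by
      rw [Preadditive.comp_sub, comp_id, ← assoc, hκ, assoc, hm, sub_self]
    have h2 : (t ≫ rho F S.X₁) ≫ F.map (κ ≫ m - 𝟙 _) = 0 := by
      rw [assoc, rho_map_eq F (κ ≫ m - 𝟙 _) 0 (by rw [hz, comp_zero]), F.map_zero, comp_zero, comp_zero]
    rw [F.map_sub, F.map_id, Preadditive.comp_sub, comp_id, F.map_comp, ← assoc, h1, zero_comp,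
      zero_sub, neg_eq_zero] at h2
    rwa [← cancel_mono (rho F S.X₁), zero_comp]
  refine ⟨?_, inferInstance⟩
  suffices H : ∀ {T : B} (t : T ⟶ (F.rightDerived 0).obj S.X₂), t ≫ (F.rightDerived 0).map S.g = 0 →
      ∃ s : T ⟶ (F.rightDerived 0).obj S.X₁, s ≫ (F.rightDerived 0).map S.f = t by
    haveI : Mono (S.map (F.rightDerived 0)).f := this
    exact ShortComplex.exact_of_f_is_kernel _ (KernelFork.IsLimit.ofι' _ _ fun {T} t ht =>
      ⟨(H t ht).choose, (H t ht).choose_spec⟩)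
  intro T t ht
  have h1 : (t ≫ rho F S.X₂) ≫ F.map (d₀ S.X₂) = 0 := by rw [assoc, rho_d, comp_zero]
  have h2 : (t ≫ rho F S.X₂) ≫ F.map φ = 0 := by
    rw [assoc, ← rho_naturality F S.g, ← assoc, ht, zero_comp]
  have h3 := key _ h1 h2 (m ≫ d₀ S.X₁) (by
    rw [assoc, ← assoc (a₀ S.X₂), ← assoc, hm]
    exact (injectiveResolution S.X₁).ι_f_zero_comp_complex_d)
  rw [F.map_comp, ← assoc] at h3
  have v := lift_rho F _ h3
  refine ⟨v.choose, ?_⟩
  have h4 := key _ h1 h2 (m ≫ κ - 𝟙 _) (by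
    rw [Preadditive.comp_sub, comp_id, assoc, ← assoc (a₀ S.X₂), ← assoc, hm, hκ, sub_self])
  rw [F.map_sub, F.map_id, Preadditive.comp_sub, comp_id, F.map_comp, sub_eq_zero, ← assoc,
    ← v.choose_spec] at h4
  rw [← cancel_mono (rho F S.X₂), assoc, rho_naturality F S.f, ← assoc]
  exact h4

theorem preservesFiniteLimits : PreservesFiniteLimits (F.rightDerived 0) :=
  (Functor.preservesFiniteLimits_iff_forall_exact_map_and_mono _).2 (exact_and_mono_map F)

end Groth.Agent.DerZero.LeftExact
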